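import Cfsg.Agent.Lib.Spor.OSevenThree.Data
import Cfsg.Agent.Lib.Grp.SchurM.TailChain
import Cfsg.Agent.Lib.Fus.PSUFourTwo
import Cfsg.Agent.Lib.Classical.OddMultMain
import Cfsg.Agent.S0292

/-! `Ω₇(3)` acting on 378 nonisotropic points, with three generators. -/

set_option autoImplicit false
set_option maxRecDepth 100000
set_option maxHeartbeats 4000000

open Matrix Cfsg.Agent.Spor.Cos Cfsg.Agent.Grp.SchurM.Tails
open scoped commutatorElement

namespace Cfsg.Agent.Spor.OSevenThree

instance : Fact (Nat.Prime 3) := ⟨Nat.prime_three⟩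

/-- The coordinates. -/
abbrev I7 : Type := Unit ⊕ (Fin 3 ⊕ Fin 3)

/-- The scalars. -/
abbrev K3 : Type := ZMod 3

/-- The isometries. -/
abbrev O73 : Type := ↥(Cfsg.isometryGroup K3 (Cfsg.quadFormOdd 3 K3))

/-- The group. -/
abbrev G73 : Type := ↥(Cfsg.Omega K3 (Cfsg.quadFormOdd 3 K3))

/-- The scalar of a number. -/
def of3 (n : ℕ) : K3 := (Fin.ofNat 3 n : Fin 3)

/-- The number of a coordinate. -/
def ix : I7 → ℕ
  | .inl _ => 0
  | .inr (.inl i) => 1 + i.1
  | .inr (.inr i) => 4 + i.1

/-- A coordinate of a number. -/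
def co7 : Fin 7 → I7 :=
  ![.inl (), .inr (.inl 0), .inr (.inl 1), .inr (.inl 2), .inr (.inr 0), .inr (.inr 1), .inr (.inr 2)]

/-- The coordinates, numbered. -/
def ixE : Fin 7 ≃ I7 where
  toFun := co7
  invFun i := Fin.ofNat 7 (ix i)
  left_inv := by decide
  right_inv := by decide

/-- The vector of a number. -/
def vecOf (c : ℕ) : I7 → K3 := fun i => of3 (c / 3 ^ ix i)

/-- The number of a vector. -/
def codeOf (v : I7 → K3) : ℕ :=
  (v (co7 0)).val + 3 * ((v (co7 1)).val + 3 * ((v (co7 2)).val + 3 * ((v (co7 3)).val + 3 * ((v (co7 4)).val +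
    3 * ((v (co7 5)).val + 3 * (v (co7 6)).val)))))

theorem codeOf_lt (v : I7 → K3) : codeOf v < 2187 := by
  have h : ∀ a : K3, a.val < 3 := fun a => a.val_lt
  have := h (v (co7 0)); have := h (v (co7 1)); have := h (v (co7 2)); have := h (v (co7 3))
  have := h (v (co7 4)); have := h (v (co7 5)); have := h (v (co7 6))
  unfold codeOf
  omega

theorem of3_eq {n : ℕ} {a : K3} (h : n % 3 = a.val) : of3 n = a :=
  Fin.ext (by show n % 3 = _; rw [h]; rfl)

theorem ix_co7 : ∀ k : Fin 7, ix (co7 k) = k.1 := by decide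

theorem vecOf_codeOf (v : I7 → K3) : vecOf (codeOf v) = v := by
  funext i
  obtain ⟨k, rfl⟩ := ixE.surjective i
  have h : ∀ a : K3, a.val < 3 := fun a => a.val_lt
  have := h (v (co7 0)); have := h (v (co7 1)); have := h (v (co7 2)); have := h (v (co7 3))
  have := h (v (co7 4)); have := h (v (co7 5)); have := h (v (co7 6))
  refine of3_eq ?_
  show codeOf v / 3 ^ ix (co7 k) % 3 = (v (co7 k)).val
  rw [ix_co7]
  fin_cases k <;> simp [codeOf] <;> omega

/-- A point. -/
noncomputable def pv (i : ℕ) : I7 → K3 := vecOf (ptT.at i)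

/-- The form, written out. -/
def qK (v : I7 → K3) : K3 :=
  v (co7 0) * v (co7 0) + v (co7 1) * v (co7 4) + v (co7 2) * v (co7 5) + v (co7 3) * v (co7 6)

theorem quad_eq (v : I7 → K3) : Cfsg.quadFormOdd 3 K3 v = qK v := by
  simp [Cfsg.quadFormOdd, qK, co7, Fin.sum_univ_three]
  ring

/-- A vector is a multiple of a point. -/
noncomputable def isMult (v w : I7 → K3) (c : K3) : Bool := decide (∀ k : Fin 7, v (co7 k) = c * w (co7 k))

theorem eq_of_isMult {v w : I7 → K3} {c : K3} (h : isMult v w c = true) : v = c • w := by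
  funext i
  obtain ⟨k, rfl⟩ := ixE.surjective i
  exact of_decide_eq_true h k

/-- A vector of norm one is found in the table. -/
noncomputable def chkCode (c : ℕ) : Bool :=
  !decide (qK (vecOf c) = 1) || force (idxT.at c) fun e => Nat.blt (e % 512) 378 && !decide (of3 (e / 512) = 0) &&
    isMult (vecOf c) (pv (e % 512)) (of3 (e / 512))

/-- A point has norm one, and is found at its own index with both factors. -/
noncomputable def chkPt (i : ℕ) : Bool :=
  decide (qK (pv i) = 1) && Nat.beq (idxT.at (codeOf (pv i)) % 512) i &&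
    Nat.beq (idxT.at (codeOf ((2 : K3) • pv i)) % 512) i

theorem code_ok : ∀ c < 2187, chkCode c = true :=
  of_blocks (size := 729) (b := 3) (by decide) (by decide) fun j hj => by interval_cases j <;> decide +kernel

theorem pt_ok : ∀ i < 378, chkPt i = true :=
  of_blocks (size := 126) (b := 3) (by decide) (by decide) fun j hj => by interval_cases j <;> decide +kernel

theorem pt_form (i : Fin 378) : Cfsg.quadFormOdd 3 K3 (pv i) = 1 := by
  have h := pt_ok i.1 i.2
  simp only [chkPt, Bool.and_eq_true, decide_eq_true_eq] at h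
  rw [quad_eq]; exact h.1.1

theorem pt_unique (i j : Fin 378) (c : K3) (h : pv j = c • pv i) : j = i := by
  have hi := pt_ok i.1 i.2
  have hj := pt_ok j.1 j.2
  simp only [chkPt, Bool.and_eq_true] at hi hj
  rcases (by decide : ∀ a : K3, a = 0 ∨ a = 1 ∨ a = 2) c with rfl | rfl | rfl
  · exfalso
    have e := pt_form j
    rw [h, zero_smul] at e
    exact absurd e (by simp [Cfsg.quadFormOdd])
  · refine Fin.ext ?_
    rw [← Nat.eq_of_beq_eq_true hj.1.2, h, one_smul, Nat.eq_of_beq_eq_true hi.1.2]
  · refine Fin.ext ?_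
    rw [← Nat.eq_of_beq_eq_true hj.1.2, h, Nat.eq_of_beq_eq_true hi.2]

theorem pt_exists (v : I7 → K3) (hv : Cfsg.quadFormOdd 3 K3 v = 1) :
    ∃ i : Fin 378, ∃ c : K3, c ≠ 0 ∧ v = c • pv i := by
  have h := code_ok _ (codeOf_lt v)
  rw [quad_eq] at hv
  simp only [chkCode, force_eq, vecOf_codeOf, Bool.or_eq_true, Bool.and_eq_true, Bool.not_eq_true',
    decide_eq_false_iff_not] at h
  rcases h with h | ⟨⟨hlt, hne⟩, hm⟩
  · exact absurd hv h
  · exact ⟨⟨_, Nat.le_of_ble_eq_true hlt⟩, _, hne, eq_of_isMult hm⟩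

/-- Twice the form as a matrix. -/
def gram : Matrix I7 I7 K3 := Matrix.of fun i j => match i, j with
  | .inl _, .inl _ => 2
  | .inr (.inl a), .inr (.inr b) => if a = b then 1 else 0
  | .inr (.inr a), .inr (.inl b) => if a = b then 1 else 0
  | _, _ => 0

theorem two_quad (v : I7 → K3) : 2 * Cfsg.quadFormOdd 3 K3 v = v ⬝ᵥ (gram *ᵥ v) := by
  simp [Cfsg.quadFormOdd, gram, Matrix.mulVec, dotProduct, Fintype.sum_sum_type, Fin.sum_univ_three]
  ring

/-- A matrix from its rows. -/
def rowsM (l : List ℕ) : Matrix I7 I7 K3 := Matrix.of fun i j => of3 (l.getD (7 * ix i + ix j) 0)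

/-- The matrix of a reflection. -/
def reflM (k : ℕ) : Matrix I7 I7 K3 := rowsM (reflRows.getD k [])

theorem refl_sq : ∀ k < 12, reflM k * reflM k = 1 := by decide +kernel

theorem refl_gram : ∀ k < 12, (reflM k)ᵀ * gram * reflM k = gram := by decide +kernel

theorem refl_pres {k : ℕ} (hk : k < 12) (v : I7 → K3) :
    Cfsg.quadFormOdd 3 K3 (reflM k *ᵥ v) = Cfsg.quadFormOdd 3 K3 v := by
  refine mul_left_cancel₀ (show (2 : K3) ≠ 0 by decide) ?_
  rw [two_quad, two_quad]
  conv_rhs => rw [← refl_gram k hk]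
  rw [← Matrix.mulVec_mulVec, ← Matrix.mulVec_mulVec, dotProduct_mulVec (v := v) (A := (reflM k)ᵀ),
    Matrix.vecMul_transpose]

/-- A reflection. -/
noncomputable def rT (k : ℕ) : O73 :=
  if h : k < 12 then ⟨⟨reflM k, reflM k, refl_sq k h, refl_sq k h⟩, fun u _ => refl_pres h u⟩ else 1

theorem rT_val {k : ℕ} (h : k < 12) : (((rT k : O73) : GL I7 K3) : Matrix I7 I7 K3) = reflM k := by
  rw [rT, dif_pos h]

theorem rT_inv {k : ℕ} (h : k < 12) : (rT k)⁻¹ = rT k := by
  refine inv_eq_of_mul_eq_one_right (Subtype.ext (Units.ext ?_))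
  simp [rT_val h, refl_sq k h]

/-- The generators. -/
noncomputable def gT (s : ℕ) : G73 :=
  if s < 3 then ⟨⁅rT (4 * s), rT (4 * s + 1)⁆ * ⁅rT (4 * s + 2), rT (4 * s + 3)⁆,
    mul_mem (Subgroup.commutator_mem_commutator (Subgroup.mem_top _) (Subgroup.mem_top _))
      (Subgroup.commutator_mem_commutator (Subgroup.mem_top _) (Subgroup.mem_top _))⟩ else 1

theorem gT_out (s : ℕ) (hs : 3 ≤ s) : gT s = 1 := by rw [gT, if_neg (by omega)]

/-- The matrices of the group. -/
def matHom : G73 →* Matrix I7 I7 K3 :=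
  (Units.coeHom _).comp ((Cfsg.isometryGroup K3 (Cfsg.quadFormOdd 3 K3)).subtype.comp
    (Cfsg.Omega K3 (Cfsg.quadFormOdd 3 K3)).subtype)

/-- The matrix of a generator. -/
def genM (s : ℕ) : Matrix I7 I7 K3 := rowsM (genRows.getD s [])

theorem genM_eq : ∀ s < 3, reflM (4 * s) * reflM (4 * s + 1) * reflM (4 * s) * reflM (4 * s + 1) *
    (reflM (4 * s + 2) * reflM (4 * s + 3) * reflM (4 * s + 2) * reflM (4 * s + 3)) = genM s := by decide +kernel

theorem matHom_gT {s : ℕ} (h : s < 3) : matHom (gT s) = genM s := by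
  rw [← genM_eq s h, gT, if_pos h]
  show ((((⁅rT (4 * s), rT (4 * s + 1)⁆ * ⁅rT (4 * s + 2), rT (4 * s + 3)⁆ : O73)) : GL I7 K3) :
    Matrix I7 I7 K3) = _
  rw [commutatorElement_def, commutatorElement_def, rT_inv (by omega), rT_inv (by omega), rT_inv (by omega),
    rT_inv (by omega)]
  simp [rT_val (show 4 * s < 12 by omega), rT_val (show 4 * s + 1 < 12 by omega),
    rT_val (show 4 * s + 2 < 12 by omega), rT_val (show 4 * s + 3 < 12 by omega)]

theorem act_inv : ∀ p < 378, actA.chkInv p = true :=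
  of_blocks (size := 126) (b := 3) (by decide) (by decide) fun j hj => by interval_cases j <;> decide +kernel

/-- A generator moves a point as in the table. -/
noncomputable def chkMove (i : ℕ) : Bool :=
  (List.range 3).all fun s => force (actA.im i s) fun j => (List.range 3).any fun c =>
    isMult (genM s *ᵥ pv i) (pv j) (of3 c)

theorem move_ok : ∀ i < 378, chkMove i = true :=
  of_blocks (size := 42) (b := 9) (by decide) (by decide) fun j hj => by interval_cases j <;> decide +kernel

/-- The coefficients of the eighth point of the frame. -/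
def frameCo : Fin 7 → K3 := fun j => of3 (frameCoRow.getD j.1 0)

/-- The matrix of the first seven points of the frame. -/
noncomputable def framePts : Matrix I7 (Fin 7) K3 := Matrix.of fun i j => pv (frame.getD j.1 0) i

/-- Its inverse. -/
def frameMat : Matrix (Fin 7) I7 K3 := Matrix.of fun j i => of3 (frameInv.getD (7 * j.1 + ix i) 0)

theorem frame_ok : framePts * frameMat = 1 ∧ frameMat * framePts = 1 ∧ framePts *ᵥ frameCo = pv (frame.getD 7 0) ∧
    (∀ k, frameCo k ≠ 0) ∧ ∀ k < 8, frame.getD k 0 < 378 := by decide +kernel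

theorem det_matHom (g : G73) : (matHom g).det = 1 := by
  have hker := Abelianization.commutator_subset_ker
    (Matrix.GeneralLinearGroup.det.comp (Cfsg.isometryGroup K3 (Cfsg.quadFormOdd 3 K3)).subtype) g.2
  rw [MonoidHom.mem_ker, MonoidHom.comp_apply] at hker
  have h := congrArg Units.val hker
  rw [Matrix.GeneralLinearGroup.val_det_apply, Units.val_one] at h
  simp only [Subgroup.subtype_apply] at h
  simpa only [matHom, MonoidHom.comp_apply, Units.coeHom_apply, Subgroup.subtype_apply] using h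

theorem exists_hom : ∃ π : G73 →* Equiv.Perm (Fin actA.N),
    actA.Hom gT π ∧ ∀ y : G73, (∀ q : Fin actA.N, (q : ℕ) ∈ frame → π y q = q) → y = 1 := by
  obtain ⟨f, hf⟩ := Fus.PSUFourTwo.exists_perm_hom matHom (fun i : Fin 378 => pv i)
    (fun v => Cfsg.quadFormOdd 3 K3 v = 1) (fun g v hv => by rw [← hv]; exact (g : O73).2 v v)
    pt_form pt_exists pt_unique
  refine ⟨f, ⟨act_inv, fun s => Equiv.ext fun p => ?_⟩, fun g hg => ?_⟩
  · rcases Nat.lt_or_ge s 3 with hs | hs
    · have hm := List.all_eq_true.1 (move_ok p.1 p.2) s (List.mem_range.2 hs)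
      rw [force_eq] at hm
      obtain ⟨c, -, hc⟩ := List.any_eq_true.1 hm
      refine Fus.PSUFourTwo.perm_eq matHom _ pt_unique hf (d := of3 c) ?_
      rw [matHom_gT hs, eq_of_isMult hc, actA.perm_apply act_inv hs]
    · rw [gT_out s hs, actA.perm_out s hs]
      exact DFunLike.congr_fun (map_one f) p
  · obtain ⟨f1, f2, f3, f4, f5⟩ := frame_ok
    have hfix : ∀ k < 8, ∃ c : K3, matHom g *ᵥ pv (frame.getD k 0) = c • pv (frame.getD k 0) := fun k hk => by
      obtain ⟨c, -, hc⟩ := hf g ⟨frame.getD k 0, f5 k hk⟩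
      have hq := hg ⟨frame.getD k 0, f5 k hk⟩ (by
        show frame.getD k 0 ∈ frame
        rw [List.getD_eq_getElem _ _ (hk : k < frame.length)]
        exact List.getElem_mem _)
      rw [show f g ⟨frame.getD k 0, f5 k hk⟩ = ⟨frame.getD k 0, f5 k hk⟩ from hq] at hc
      exact ⟨c, hc⟩
    choose c hc using hfix
    let d : Fin 7 → K3 := fun j => c j.1 (by omega)
    have e1 : matHom g * framePts = framePts * Matrix.diagonal d := by
      ext i j
      rw [Matrix.mul_diagonal]
      have := congrFun (hc j.1 (by omega)) i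
      simp only [Matrix.mulVec, dotProduct, Pi.smul_apply, smul_eq_mul] at this
      rw [Matrix.mul_apply]
      exact this.trans (mul_comm _ _)
    have e2 : Matrix.diagonal d *ᵥ frameCo = c 7 (by norm_num) • frameCo := by
      have h4 := hc 7 (by norm_num)
      rw [← f3, Matrix.mulVec_mulVec, e1, ← Matrix.mulVec_mulVec, ← Matrix.mulVec_smul] at h4
      have := congrArg (fun v => frameMat *ᵥ v) h4
      simpa only [Matrix.mulVec_mulVec, ← Matrix.mul_assoc, f2, Matrix.one_mul, Matrix.one_mulVec] using this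
    have hd : d = fun _ => c 7 (by norm_num) := funext fun k => by
      have := congrFun e2 k
      rw [Matrix.mulVec_diagonal, Pi.smul_apply, smul_eq_mul] at this
      exact mul_right_cancel₀ (f4 k) this
    have e3 : matHom g = c 7 (by norm_num) • (1 : Matrix I7 I7 K3) := by
      have := congrArg (· * frameMat) e1
      simp only [Matrix.mul_assoc, f1, Matrix.mul_one, hd] at this
      rw [this, ← Matrix.smul_one_eq_diagonal, Matrix.smul_mul, Matrix.one_mul, Matrix.mul_smul, f1]
    have hdet := det_matHom g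
    rw [e3, Matrix.det_smul, Matrix.det_one, mul_one, show Fintype.card I7 = 7 from rfl] at hdet
    rw [(by decide : ∀ a : K3, a ^ 7 = 1 → a = 1) _ hdet, one_smul] at e3
    exact Subtype.ext (Subtype.ext (Units.ext e3))

/-- The action. -/
noncomputable def piA : G73 →* Equiv.Perm (Fin actA.N) := exists_hom.choose

theorem homA : actA.Hom gT piA := exists_hom.choose_spec.1

theorem det (y : G73) (h : ∀ q : Fin actA.N, (q : ℕ) ∈ frame → piA y q = q) : y = 1 := exists_hom.choose_spec.2 y h

/-- The group is its projective group. -/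
theorem exists_equiv : Nonempty (G73 ≃* Cfsg.POmega K3 (Cfsg.quadFormOdd 3 K3)) := by
  obtain ⟨e⟩ := Classical.OddMult.exists_equiv (F := K3) (m := 3) le_rfl (by decide)
  exact ⟨(Classical.OddMult.omCongr (Classical.coe_qfOdd 3).symm).trans e⟩

theorem card_G73 : Nat.card G73 = 4585351680 := by
  obtain ⟨e⟩ := exists_equiv
  rw [Nat.card_congr e.toEquiv]
  have h := Cfsg.Agent.S0292.result (F := K3) (q := 3) rfl (by decide) 3 le_rfl
  norm_num [Finset.prod_range_succ] at h
  omega

/-- The generators as a certificate. -/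
def genTab : TableCert where
  P := ⟨2, 3, [], []⟩
  ews := [[0], [1], [2]]
  gws := []
  C := []
  K := ⟨[], 0, []⟩
  els := []

theorem levels_ok : genTab.chkLevels actA levels [] = true := by decide +kernel

theorem gen : Subgroup.closure {x | ∃ s < 3, gT s = x} = ⊤ := by
  have : Finite G73 := Nat.finite_of_card_ne_zero (by rw [card_G73]; norm_num)
  refine Subgroup.eq_top_of_le_card _ ?_
  have h := TableCert.le_card_of_levels (S := genTab) homA (by decide +kernel) levels [] levels_ok
    (Subgroup.closure {x | ∃ s < 3, gT s = x}) fun x hx _ => by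
      refine (Subgroup.closure_le _).2 ?_ hx
      rintro _ ⟨k, hk, rfl⟩
      refine Subgroup.subset_closure ⟨k, hk, ?_⟩
      have hk' : k < 3 := hk
      show gT k = ev gT (genTab.ews.getD k [])
      interval_cases k <;> exact (mul_one _).symm
  rw [card_G73]
  exact le_trans (by decide +kernel) h

end Cfsg.Agent.Spor.OSevenThree
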