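import Cfsg.Agent.Lib.Grp.SchurM.StemPair
import Cfsg.Agent.Lib.Spor.Cos.Sift
import Cfsg.Agent.Lib.Spor.OSevenThree.Group
import Cfsg.Agent.Lib.Spor.OSevenThree.SignData

/-! Shifts modulo three on the 378 points give a triple cover. -/

set_option autoImplicit false
set_option maxRecDepth 100000
set_option maxHeartbeats 4000000

open Cfsg.Agent.Spor.Cos Cfsg.Agent.Grp.SchurM

namespace Cfsg.Agent.Spor.OSevenThree

/-- The action on one point. -/
def actOne : Act := ⟨3, 1, ⟨.leaf 0, 48, 0⟩⟩

theorem homOne : actOne.Hom gT (1 : G73 →* Equiv.Perm (Fin actOne.N)) := by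
  refine ⟨by decide +kernel, fun s => Equiv.ext fun p => ?_⟩
  have : Subsingleton (Fin actOne.N) := inferInstanceAs (Subsingleton (Fin 1))
  exact Subsingleton.elim _ _

/-- The shifts. -/
def sign3 : SignTab := ⟨actA, 3, actOne, sgT, edT, 1, paT, 0⟩

theorem ok3 : sign3.Ok where
  prime := Nat.prime_three
  root_lt := by decide
  step := of_blocks (size := 27) (b := 14) (by decide) (by decide) fun j hj => by interval_cases j <;> decide +kernel
  apart := of_blocks (size := 63) (b := 6) (by decide) (by decide) fun j hj => by interval_cases j <;> decide +kernel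
  pred := of_blocks (size := 63) (b := 6) (by decide) (by decide) fun j hj => by interval_cases j <;> decide +kernel

theorem shift3 : sign3.chkShift pairU pairW = true := by decide +kernel

theorem comm3 : ev gT (pairU ++ pairW) = ev gT (pairW ++ pairU) :=
  ev_eq_of_agree homA det (by decide +kernel) (by decide +kernel) (by decide +kernel)

/-- A triple cover. -/
theorem exists_three : ∃ (Γ : Type) (_ : Group Γ) (_ : Finite Γ) (σ : Γ →* G73),
    Cfsg.IsStemExtension σ ∧ Nat.card σ.ker = 3 := by
  have : Finite G73 := Nat.finite_of_card_ne_zero (by rw [card_G73]; norm_num)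
  have := ok3.finite (G := G73)
  obtain ⟨π, hπ⟩ : ∃ π : G73 →* Equiv.Perm (Fin sign3.B.N), sign3.B.Hom gT π := ⟨piA, homA⟩
  obtain ⟨h1, h2⟩ := ok3.stem (G := G73) (π := π) hπ homOne rfl gen shift3 comm3
  exact ⟨_, inferInstance, inferInstance, sign3.proj gT π, h1, h2⟩

end Cfsg.Agent.Spor.OSevenThree
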