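import Cfsg.Agent.Lib.Grp.SchurM.TailChain
import Cfsg.Agent.Lib.Spor.Cos.Sift
import Cfsg.Agent.Lib.Spor.OSevenThree.Group

/-! A Sylow 2-subgroup of the orthogonal group with equations for the tails. -/

set_option autoImplicit false
set_option maxRecDepth 100000
set_option maxHeartbeats 8000000

open Cfsg.Agent.Grp.SchurM.Tails

namespace Cfsg.Agent.Spor.OSevenThree

/-- Presentation of the Sylow 2-subgroup. -/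
def pc2 : PC where
  p := 2
  n := 9
  rhs := [[],
    [0, 1],
    [8],
    [0, 2],
    [1, 2, 5],
    [],
    [0, 3, 4],
    [1, 3, 6],
    [2, 3, 4],
    [],
    [0, 4],
    [1, 4],
    [2, 4],
    [3, 4],
    [],
    [0, 5],
    [1, 5],
    [2, 5],
    [3, 5, 7],
    [4, 5],
    [],
    [0, 6],
    [1, 6],
    [2, 6, 7, 8],
    [3, 6],
    [4, 6],
    [5, 6, 8],
    [],
    [0, 7],
    [1, 7, 8],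
    [2, 7],
    [3, 7],
    [4, 7],
    [5, 7],
    [6, 7],
    [],
    [0, 8],
    [1, 8],
    [2, 8],
    [3, 8],
    [4, 8],
    [5, 8],
    [6, 8],
    [7, 8],
    []]
  defs := [(4, 3, 0), (5, 2, 1), (6, 3, 1), (7, 5, 3), (8, 7, 1)]

/-- Transversals along the base. -/
def lev2 : List (ℕ × List (List ℕ)) :=
   [(7, [[1, 8], [], [6], [1, 3, 6], [3], [3, 6], [1, 3, 8], [1, 3, 6, 8], [1, 6, 8], [6, 8], [1, 6], [3, 8], [1, 3], [1], [8], [3, 6, 8]]),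
    (193, [[2, 4, 7], [4, 7], [2], [2, 4, 8], [7, 8], [], [0], [4, 8]]),
    (109, [[], [5, 8]]),
    (156, [[], [0, 2, 7, 8]])]

/-- Conjugation data. -/
def conj2 : List Conj :=
   [(0, [4, 5, 6, 7, 8], [0, 1, 6, 8]),
    (0, [1, 4, 5], [1, 5, 6, 7, 8]),
    (0, [0, 5], [0, 4, 6, 7, 8]),
    (0, [0, 1, 5], [1, 4, 5, 6, 7]),
    (0, [1, 4, 6], [0, 1]),
    (0, [4, 5, 6, 8], [4, 5, 6, 7]),
    (1, [2, 4, 5, 6, 7], [1, 2, 4, 5, 6, 8]),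
    (1, [2, 4, 5, 8], [2, 7]),
    (1, [1, 2], [2, 5, 6, 7]),
    (1, [1, 2, 4, 6, 8], [0, 1, 2, 5, 7, 8]),
    (1, [0, 1, 4, 5, 6, 7, 8], [1, 5]),
    (2, [4, 5, 8], [0, 2, 5, 8]),
    (2, [0, 4, 5, 7], [0, 4, 5, 7, 8]),
    (2, [4, 7], [4, 5]),
    (2, [0, 2, 4, 5, 8], [5, 7]),
    (2, [2, 4, 5, 8], [0, 5, 7]),
    (2, [2, 4], [2, 4, 7, 8]),
    (3, [0, 1, 4, 7], [3, 6, 7, 8]),
    (3, [0, 1, 7, 8], [3, 4, 6, 7]),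
    (4, [0, 8], [3, 4, 6, 7, 8]),
    (4, [0, 2, 5], [0, 2, 5, 7]),
    (4, [5, 7], [0, 2, 4, 5, 8]),
    (4, [0, 7, 8], [3, 4, 6, 8])]

/-- Equations between tails. -/
def cert2 : Cert where
  eqns := [.cons [2, 1, 0] 0 1,
    .cons [3, 1, 0] 0 1,
    .cons [3, 2, 0] 0 1,
    .cons [3, 2, 1] 0 1,
    .cons [4, 2, 1] 0 1,
    .cons [4, 3, 1] 0 1,
    .cons [5, 3, 0] 0 1,
    .cons [5, 3, 1] 0 1,
    .cons [5, 3, 2] 0 1,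
    .cons [5, 4, 3] 0 1,
    .cons [6, 2, 0] 0 1,
    .cons [6, 2, 1] 0 1,
    .cons [6, 3, 2] 0 1,
    .cons [6, 4, 2] 0 1,
    .cons [6, 5, 1] 0 1,
    .cons [6, 5, 2] 0 1,
    .cons [6, 5, 3] 0 1,
    .cons [7, 2, 1] 0 1,
    .cons [7, 3, 1] 0 1,
    .cons [7, 5, 1] 0 1,
    .cons [2, 2, 1] 0 1,
    .cons [2, 1, 1] 0 1,
    .cons [3, 3, 0] 0 1,
    .cons [3, 0, 0] 0 1,
    .cons [3, 3, 1] 0 1,
    .cons [3, 1, 1] 0 1,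
    .cons [5, 5, 3] 0 1,
    .cons [5, 3, 3] 0 1,
    .fus [0, 1, 2, 3, 4, 5] [1, 0] [0, 1],
    .fus [0, 1, 2, 3, 4, 5] [1, 1] [0, 0],
    .fus [0, 1, 2, 3, 4, 5] [2, 1] [1, 2],
    .fus [0, 1, 2, 3, 4, 5] [2, 2] [],
    .fus [0, 1, 2, 3, 4, 5] [3, 1] [1, 3],
    .fus [0, 1, 2, 3, 4, 5] [3, 3] [0, 0],
    .fus [6, 7, 8, 9, 10] [2, 0, 4] [0, 4, 2],
    .fus [11, 12, 13, 14, 15, 16] [0, 0] [],
    .fus [11, 12, 13, 14, 15, 16] [1, 0] [0, 1],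
    .fus [17, 18] [0, 0] [],
    .fus [19, 20, 21, 22] [1, 0] [0, 1]]
  free := 3
  combo := [[0, 2, 5, 7, 8, 9, 10, 14, 15, 16, 17, 18, 19, 20, 21, 28, 29, 30, 33, 36],
    [2, 5, 8, 9, 10, 11, 12, 14, 16, 19, 20, 21, 26, 27, 28, 30, 36],
    [2, 4, 6, 8, 9, 10, 14, 15, 16, 20, 25, 28, 32, 33, 36],
    [],
    [],
    [0, 5, 6, 7, 9, 10, 13, 14, 15, 16, 17, 18, 20, 21, 23, 28, 29, 30, 33, 35],
    [],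
    [],
    [1, 2, 3, 6, 9, 11, 20, 23, 26, 27, 32, 34, 38],
    [2, 5, 7, 8, 12, 14, 15, 17, 20, 24, 26, 29, 31, 32, 34, 37],
    [0, 2, 8, 10, 11, 12, 18, 20, 21, 26, 27, 28, 30, 32, 36],
    [2, 8, 10, 12, 15, 20, 23, 25, 27, 28, 31, 32, 36],
    [0, 8, 10, 11, 12, 18, 20, 21, 26, 27, 28, 30, 32, 36],
    [0, 2, 8, 10, 11, 12, 18, 20, 21, 22, 23, 26, 27, 28, 30, 32, 36],
    [0, 2, 8, 10, 11, 12, 18, 20, 21, 23, 26, 27, 28, 30, 32, 36],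
    [0],
    [11, 12, 18, 19, 26, 27, 28, 30, 32],
    [0, 2, 5, 8, 13, 16, 17, 18, 21, 28, 30, 34],
    [],
    [4],
    [0, 2, 5, 8, 13, 16, 17, 18, 20, 21, 28, 30, 34],
    [1, 2, 5, 8, 10, 12, 15, 20, 23, 25, 27, 28, 31, 32, 36],
    [0, 1, 2, 5, 7, 8, 12, 14, 15, 16, 17, 19, 20, 21, 26, 27, 30, 36],
    [0, 3, 4, 7, 9, 10, 11, 13, 15, 16, 19, 23, 25, 26, 28, 31, 34, 36],
    [1, 5, 7, 11, 12, 14, 15, 17, 19, 21, 24, 25, 26, 27, 30, 32, 34, 36],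
    [5],
    [0, 2, 5, 8, 12, 13, 14, 15, 16, 17, 19, 20, 26, 27, 32, 34],
    [1, 5, 7, 11, 12, 14, 15, 17, 19, 21, 25, 26, 27, 30, 32, 34, 36],
    [4, 6, 9],
    [],
    [4, 8, 9],
    [0, 2, 5, 8, 11, 12, 13, 16, 20, 32, 34],
    [9],
    [0, 2, 5, 8, 11, 12, 13, 16, 20, 26, 27, 32, 34],
    [0, 2, 8, 11, 15, 17, 20, 32, 34],
    [0, 2, 5, 8, 11, 12, 13, 16, 20, 27, 32, 34],
    [4, 6, 9, 10],
    [14],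
    [0, 2, 5, 8, 11, 12, 13, 16, 17, 19, 20, 26, 27, 32, 34],
    [0, 2, 8, 11, 16, 20, 32, 34],
    [9, 13],
    [19],
    [15, 16, 17, 18],
    [15, 17],
    [5, 7, 11, 12, 13, 14, 15, 16, 17, 19, 26, 27]]

/-- The certificate. -/
def tab2 : TableCert where
  P := pc2
  ews := [[0, 2, 0, 1, 2, 0, 1, 2, 1, 2, 0, 1, 0, 2, 1, 0, 1, 0, 1, 2, 0, 1, 0, 2, 0, 1, 0, 1, 2, 1],
    [1, 2, 1, 0, 2, 1, 0, 1, 2, 1, 2, 0, 2, 0, 2, 0, 1, 2, 0, 2, 1, 2, 1, 0, 2, 1, 2, 1, 2],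
    [0, 1, 2, 1, 2, 0, 1, 2, 0, 2, 0, 1, 0, 1, 0, 2, 1, 0, 2, 1, 0, 1, 0, 1, 0, 1, 2, 0, 2, 0, 2, 1, 0],
    [1, 2, 0, 1, 2, 0, 1, 0, 1, 0, 1, 0, 1, 0, 1, 2, 0, 2, 1, 0, 2, 0, 2, 1, 0, 1, 0, 1, 2, 1, 2, 0],
    [0, 1, 2, 0, 1, 2, 0, 1, 0, 1, 2, 1, 2, 1, 0, 1, 0, 1, 2, 0, 1, 2, 0, 1, 0, 1, 2, 1, 2, 1, 0, 1],
    [0, 1, 0, 2, 1, 2, 1, 0, 2, 1, 0, 2, 0, 1, 2, 0, 1, 2, 1, 0, 2, 1, 0, 2, 1, 0, 1, 0, 1, 0, 2, 0],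
    [0, 2, 0, 1, 2, 1, 2, 0, 1, 0, 1, 0, 1, 2, 0, 2, 1, 0, 2, 1, 0, 2, 1, 2, 0, 2, 0, 2, 1, 0, 2],
    [1, 2, 1, 0, 2, 0, 1, 2, 1, 2, 0, 2, 1, 2, 1, 2, 1, 0, 2, 0, 1, 0, 2, 0, 2, 0, 1, 2, 0],
    [2, 0, 1, 0, 1, 2, 0, 1, 0, 1, 2, 0, 2, 0, 1, 0, 2, 1, 2, 1, 0, 2, 0, 2, 0, 2, 0, 1, 0, 2, 0, 2, 0, 2]]
  gws := [[0, 2, 1, 2, 1, 2, 0, 2, 1, 2, 0, 1, 2, 0, 2, 0, 1, 0, 2, 1, 2, 0, 2, 1, 0, 1, 2, 1, 0, 1, 2],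
    [2, 1, 0, 2, 1, 0, 1, 2, 1, 0, 2, 0, 1, 0, 1, 0, 1, 2, 1, 0, 2, 1, 0, 2, 1, 0, 2, 0, 2, 0, 1, 2],
    [0, 2, 1, 2, 1, 0, 2, 0, 1, 0, 1, 2, 1, 0, 2, 1, 0, 2, 0, 1, 2, 1, 0, 2, 0, 2, 0, 1, 0, 1, 0, 1, 2],
    [0, 1, 0, 1, 2, 0, 2, 1, 0, 1, 0, 1, 2, 1, 0, 1, 2, 1, 0, 2, 1, 2, 1, 2, 1, 2, 1, 0, 1, 0, 2, 0],
    [1, 2, 1, 2, 0, 2, 0, 1, 0, 2, 1, 2, 0, 1, 0, 1, 2, 1, 0, 1, 2, 0, 2, 1, 0, 2, 1, 2, 1, 2, 1]]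
  C := conj2
  K := cert2
  els := []

theorem tab2_rel : tab2.chkRel actA frame = true := by decide +kernel

theorem tab2_card : tab2.chkChain actA frame lev2 = true := by decide +kernel

theorem tab2_tails : tab2.K.check tab2.P tab2.C = true := by decide +kernel

theorem pow_free2 : Cfsg.Agent.Spor.Cos.ev gT (tab2.flat (List.replicate 2 2)) = Cfsg.Agent.Spor.Cos.ev gT [] :=
  Cfsg.Agent.Spor.Cos.ev_eq_of_agree homA det (by decide +kernel) (by decide +kernel) (by decide +kernel)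

/-- The certificate with one free commutator. -/
theorem sylow2 : ∃ S : SylowExp G73 2, S.m = 2 :=
  TableCert.sylowExp_chain homA (by decide +kernel) det card_G73 rfl (by decide) tab2_rel tab2_card tab2_tails
    (j := 2) (i := 0) (by decide +kernel) rfl rfl (m := 2) pow_free2 (by decide +kernel)

end Cfsg.Agent.Spor.OSevenThree
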