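import Cfsg.Agent.Lib.Grp.SchurM.TailChain
import Cfsg.Agent.Lib.Spor.Cos.Sift
import Cfsg.Agent.Lib.Spor.OSevenThree.Group

/-! A Sylow 3-subgroup of the orthogonal group with equations for the tails. -/

set_option autoImplicit false
set_option maxRecDepth 100000
set_option maxHeartbeats 8000000

open Cfsg.Agent.Grp.SchurM.Tails

namespace Cfsg.Agent.Spor.OSevenThree

/-- Presentation of the Sylow 3-subgroup. -/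
def pc3 : PC where
  p := 3
  n := 9
  rhs := [[],
    [0, 1, 3],
    [],
    [0, 2, 6, 6, 7, 7],
    [1, 2, 4],
    [],
    [0, 3, 5],
    [1, 3],
    [2, 3, 6],
    [],
    [0, 4, 6, 6, 8, 8],
    [1, 4, 8, 8],
    [2, 4],
    [3, 4, 8],
    [],
    [0, 5],
    [1, 5],
    [2, 5, 7],
    [3, 5],
    [4, 5, 8],
    [],
    [0, 6, 7, 8, 8],
    [1, 6, 8, 8],
    [2, 6],
    [3, 6, 8, 8],
    [4, 6],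
    [5, 6],
    [],
    [0, 7],
    [1, 7, 8],
    [2, 7],
    [3, 7],
    [4, 7],
    [5, 7],
    [6, 7],
    [],
    [0, 8],
    [1, 8],
    [2, 8],
    [3, 8],
    [4, 8],
    [5, 8],
    [6, 8],
    [7, 8],
    []]
  defs := [(3, 1, 0), (4, 2, 1), (5, 3, 0), (6, 3, 2), (7, 5, 2), (8, 7, 1)]

/-- Transversals along the base. -/
def lev3 : List (ℕ × List (List ℕ)) :=
   [(242, [[0, 1, 6], [3], [0, 0, 6], [0, 0, 3, 6], [0], [0, 0, 1, 6], [5], [0, 3, 5], [1, 6], [0, 0, 3, 5], [1, 5], [3, 5], [0, 0], [0, 1], [0, 0, 3], [0, 5], [], [0, 3], [0, 0, 1, 5], [0, 3, 6], [0, 0, 1], [6], [0, 6], [1], [0, 0, 5], [0, 1, 5], [3, 6]]),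
    (130, [[1, 3], [4, 5, 7], [], [7], [4, 5], [1, 3, 7], [7, 7], [5, 6], [2, 5, 5]]),
    (156, [[1, 1, 3, 3, 4, 5, 5, 6], [1, 3, 5, 6, 7, 7], [8, 8], [], [1, 1, 3, 3, 4, 5, 5, 6, 8], [1, 2, 3, 5, 7], [1, 3, 4, 5, 7], [8], [1, 1, 3, 3, 5, 5, 6, 6, 7]]),
    (193, [[4, 4, 6, 7], [2, 2, 6, 6, 7, 7, 8], [2, 2, 4, 6, 7, 8], [], [4, 6, 6, 7, 7], [2, 6, 7, 8, 8], [2, 4, 4, 6, 6, 7, 7, 8, 8], [2, 4, 8, 8], [2, 2, 4, 4, 8]])]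

/-- Conjugation data. -/
def conj3 : List Conj :=
   [(0, [1, 2, 4, 4, 6, 7, 8], [1, 2, 2, 4, 4, 6, 8, 8]),
    (0, [1, 7, 8], [1, 4, 4, 6, 7, 8]),
    (0, [1, 1, 2, 2, 3, 3, 4, 4, 5, 5, 8], [2, 4, 5, 5, 6, 6, 8, 8]),
    (0, [1, 2, 3, 4, 4, 5, 5, 7, 7, 8, 8], [1, 2, 2, 3, 3, 4, 4, 6, 8]),
    (1, [1, 2, 4, 4, 7], [1, 1, 2, 2, 3, 4, 4, 5, 5]),
    (1, [0, 1, 1, 2, 2, 3, 4, 4, 5, 6, 6, 7, 7, 8], [0, 0, 1, 2, 3, 4, 4, 5, 5, 6, 8, 8]),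
    (1, [1, 3, 3, 5, 5, 6, 7], [1, 1, 4, 4, 5, 5, 6, 6, 7]),
    (2, [0, 2, 3, 3, 5, 6, 6, 7, 8], [0, 3, 3, 6, 6, 8, 8]),
    (2, [2, 5, 6, 7, 8], [0, 3, 3, 5, 5, 6, 6, 8]),
    (2, [2, 2, 5, 6, 6, 7, 7], [0, 3, 3, 7]),
    (2, [0, 0, 2, 2, 3, 5, 6, 7, 8], [2, 2, 5, 7, 8, 8])]

/-- Equations between tails. -/
def cert3 : Cert where
  eqns := [.cons [2, 1, 0] 0 1,
    .cons [3, 1, 0] 0 1,
    .cons [3, 2, 0] 0 1,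
    .cons [3, 2, 1] 0 1,
    .cons [4, 1, 0] 0 1,
    .cons [4, 2, 0] 0 1,
    .cons [4, 2, 1] 0 1,
    .cons [4, 3, 0] 0 1,
    .cons [4, 3, 1] 0 1,
    .cons [4, 3, 2] 0 1,
    .cons [5, 1, 0] 0 1,
    .cons [5, 2, 0] 0 1,
    .cons [5, 2, 1] 0 1,
    .cons [5, 3, 2] 0 1,
    .cons [5, 4, 0] 0 1,
    .cons [5, 4, 1] 0 1,
    .cons [5, 4, 2] 0 1,
    .cons [6, 1, 0] 0 1,
    .cons [6, 2, 0] 0 1,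
    .cons [6, 2, 1] 0 1,
    .cons [6, 3, 0] 0 1,
    .cons [6, 3, 1] 0 1,
    .cons [6, 4, 0] 0 1,
    .cons [6, 4, 1] 0 1,
    .cons [6, 5, 0] 0 1,
    .cons [1, 1, 1, 0] 0 2,
    .cons [1, 0, 0, 0] 0 1,
    .cons [2, 2, 2, 0] 0 2,
    .cons [2, 0, 0, 0] 0 1,
    .cons [2, 2, 2, 1] 0 2,
    .cons [3, 3, 3, 0] 0 2,
    .fus [0, 1, 2, 3] [1, 0, 2] [0, 2, 1],
    .fus [0, 1, 2, 3] [2, 0, 1] [1, 2, 0],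
    .fus [0, 1, 2, 3] [2, 2, 2] [],
    .fus [0, 1, 2, 3] [3, 1, 3, 3] [2, 2, 1, 2],
    .fus [0, 1, 2, 3] [0, 2, 0, 2, 0] [2, 2],
    .fus [4, 5, 6] [1, 2, 1, 2, 1] [2, 2],
    .fus [7, 8, 9, 10] [1, 0] [0, 1]]
  free := 26
  combo := [[1, 2, 2, 3, 3, 4, 5, 7, 8, 9, 9, 10, 10, 11, 11, 12, 12, 14, 15, 16, 17, 17, 18, 18, 19, 19, 20, 20, 21, 22, 22, 24, 25, 26, 26, 27, 27, 31, 31, 32, 33, 34, 34, 35, 35, 36, 36],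
    [],
    [6, 7, 8, 8, 9, 12, 13, 13, 15, 17, 19, 22, 22, 23, 23, 25, 27, 33, 33, 35, 35],
    [2, 2, 5, 5, 6, 6, 7, 8, 9, 9, 10, 10, 11, 12, 15, 16, 17, 20, 22, 22, 23, 23, 24, 24, 25, 26, 27, 27, 28, 28, 30, 37],
    [],
    [1, 3, 3, 4, 5, 5, 6, 6, 8, 8, 10, 10, 11, 11, 12, 12, 13, 13, 14, 16, 17, 18, 19, 19, 20, 21, 22, 22, 23, 23, 25, 28, 28, 30, 31, 31, 32, 33, 33, 34, 34],
    [],
    [6, 7, 8, 8, 9, 9, 12, 12, 14, 16, 17, 19, 19, 20, 22, 22, 24, 24, 31, 31, 32],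
    [],
    [25, 25],
    [0, 4, 4, 6, 7, 8, 9, 9, 11, 12, 14, 16, 17, 19, 19, 21, 24, 24, 28],
    [3, 4, 8, 9, 9, 14, 16, 16, 17, 19, 20, 20, 23, 24, 31, 31, 32, 32],
    [1, 1, 3, 4, 4, 5, 5, 6, 6, 7, 8, 8, 10, 12, 12, 14, 14, 15, 17, 18, 18, 19, 21, 24, 24, 25, 25, 30, 30, 32, 33, 34, 35, 35],
    [3, 3, 4, 7, 7, 9, 9, 12, 12, 14, 14, 15, 15, 16],
    [29, 29],
    [10, 25, 26, 30],
    [1, 1, 10],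
    [],
    [10, 10],
    [9, 12, 12, 16, 19, 23, 23],
    [30, 30],
    [2, 8, 9, 9, 13, 14, 15, 16, 16, 17, 17, 19, 19, 20, 20, 21, 22],
    [3, 3, 4, 4, 6, 13, 13, 15, 15, 16, 17, 17, 19, 20, 20, 22, 22, 23, 23, 24],
    [5, 6, 9, 22, 22],
    [6, 6, 7, 7, 8, 9, 9, 12, 12, 13, 15, 15, 17, 19, 19, 20, 21, 22, 23, 24, 24],
    [6, 19, 19],
    [],
    [6, 6, 7, 7, 8, 11, 11, 12, 12, 13, 14, 15, 16, 17, 17, 21, 23, 24, 28, 28],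
    [6, 6, 8, 8, 11, 15, 15, 16, 21, 22, 22, 23, 23, 24, 24],
    [],
    [6, 8, 8, 9, 9, 13, 14, 14, 16, 16, 18, 18, 19, 19, 20, 20, 21, 21, 22, 23, 23, 24],
    [6, 6, 13, 13, 16, 22, 22, 23, 23],
    [6, 6, 8, 8, 13, 14, 14, 16, 20, 20, 21, 21, 22, 24],
    [8, 8, 15, 15, 21, 24, 24],
    [6, 16, 16, 22, 23],
    [6, 7, 8, 8, 11, 12, 13, 13, 14, 14, 15, 15, 16, 16, 17, 21, 21, 23, 23, 24, 24, 27, 28],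
    [6, 6, 8, 8, 9, 9, 14, 15, 15, 19, 19, 21, 23, 23],
    [8, 8, 21],
    [9, 9, 19, 19, 23],
    [8, 8, 21, 21],
    [6, 9, 19, 23, 23],
    [8, 8, 15, 15, 21],
    [6, 9, 19, 23],
    [6, 8, 9, 9, 13, 13, 14, 16, 19, 19, 20, 21, 22, 22, 23, 24, 24],
    [6, 6, 7, 12, 13, 14, 15, 15, 16, 17, 20, 22, 24, 24]]

/-- The certificate. -/
def tab3 : TableCert where
  P := pc3
  ews := [[1, 0, 1, 2, 0, 2, 1, 2, 1, 2, 1, 2, 0, 1, 0, 2, 0, 2, 0, 1, 2, 0, 2, 0, 2, 1, 0, 1, 0, 2, 1, 2],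
    [1, 2, 0, 2, 1, 2, 1, 0, 1, 0, 1, 2, 1, 0, 2, 1, 0, 1, 0, 1, 0, 1, 0, 1, 2, 0, 2, 0, 2, 1],
    [0, 2, 0, 1, 0, 1, 0, 1, 2, 0, 1, 2, 1, 2, 0, 2, 1, 0, 2, 1, 0, 2, 1, 0, 1, 2, 1, 2, 1, 0, 2, 0],
    [0, 1, 0, 1, 0, 2, 1, 2, 1, 0, 1, 0, 1, 2, 1, 0, 1, 2, 1, 0, 1, 0, 2, 1, 2, 0, 1, 2, 1, 0, 1],
    [1, 2, 0, 1, 0, 2, 0, 2, 1, 2, 1, 0, 1, 2, 0, 2, 0, 1, 0, 1, 0, 2, 0, 1, 0, 2, 1, 2, 1, 2, 0, 2, 1],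
    [2, 1, 2, 0, 2, 1, 2, 0, 2, 1, 2, 1, 0, 1, 0, 2, 1, 0, 1, 0, 2, 1, 0, 1, 0, 1, 2, 1],
    [0, 2, 1, 2, 0, 2, 0, 1, 2, 0, 2, 1, 2, 1, 0, 2, 0, 1, 0, 1, 2, 1, 0, 1, 2, 0, 2, 0, 1, 2, 0, 2, 1],
    [2, 0, 1, 2, 0, 1, 2, 0, 2, 0, 1, 2, 0, 2, 0, 1, 0, 1, 2, 1, 2, 0, 2, 1, 2, 1, 2, 0, 2, 0, 1],
    [0, 1, 0, 2, 0, 1, 0, 1, 2, 0, 2, 1, 2, 1, 0, 1, 2, 0, 1, 0, 2, 1, 0, 1, 0, 1, 2, 0, 1, 2]]
  gws := [[0, 1, 2, 1, 2, 1, 2, 0, 1, 0, 2, 1, 0, 2, 0, 2, 0, 1, 0, 2, 0, 2, 1, 0, 1, 0, 1, 0, 1, 2, 1, 0, 1],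
    [1, 2, 1, 0, 2, 0, 1, 0, 2, 0, 1, 0, 1, 2, 1, 0, 2, 1, 0, 2, 1, 0, 1, 2, 1, 0, 2, 0, 1, 0],
    [2, 0, 2, 0, 2, 1, 2, 0, 2, 1, 0, 2, 1, 0, 2, 0, 2, 1, 2, 0, 1, 2, 0, 1, 0, 1, 0]]
  C := conj3
  K := cert3
  els := []

theorem tab3_rel : tab3.chkRel actA frame = true := by decide +kernel

theorem tab3_card : tab3.chkChain actA frame lev3 = true := by decide +kernel

theorem tab3_tails : tab3.K.check tab3.P tab3.C = true := by decide +kernel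

theorem pow_free3 : Cfsg.Agent.Spor.Cos.ev gT (tab3.flat (List.replicate 3 6)) = Cfsg.Agent.Spor.Cos.ev gT [] :=
  Cfsg.Agent.Spor.Cos.ev_eq_of_agree homA det (by decide +kernel) (by decide +kernel) (by decide +kernel)

/-- The certificate with one free commutator. -/
theorem sylow3 : ∃ S : SylowExp G73 3, S.m = 3 :=
  TableCert.sylowExp_chain homA (by decide +kernel) det card_G73 rfl (by decide) tab3_rel tab3_card tab3_tails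
    (j := 6) (i := 5) (by decide +kernel) rfl rfl (m := 3) pow_free3 (by decide +kernel)

end Cfsg.Agent.Spor.OSevenThree
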