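import Cfsg.Agent.Lib.Grp.SchurM.StemProd
import Cfsg.Agent.Lib.Grp.SchurM.SylowBounds
import Cfsg.Agent.Lib.Classical.IsometryTransport
import Cfsg.Agent.Lib.Spor.SUFieldCongr
import Cfsg.Agent.Lib.Spor.OSevenThree.Sign
import Cfsg.Agent.Lib.Spor.OSevenThree.Tail2
import Cfsg.Agent.Lib.Spor.OSevenThree.Tail3
import Cfsg.Agent.Lib.Spor.OSevenThree.Tail5
import Cfsg.Agent.Lib.Spor.OSevenThree.Tail7
import Cfsg.Agent.Lib.Spor.OSevenThree.Tail13

/-! The multiplier of `PΩ₇(3)`. -/

set_option autoImplicit false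
set_option maxRecDepth 100000

open Cfsg Cfsg.Agent.Grp.SchurM Cfsg.Agent.Grp.SchurM.Tails

namespace Cfsg.Agent.Spor.OSevenThree

universe u

/-- A stem extension with a cyclic kernel of order six. -/
theorem exists_six : ∃ (Γ : Type) (_ : Group Γ) (_ : Finite Γ) (σ : Γ →* G73),
    Cfsg.IsStemExtension σ ∧ Nonempty (σ.ker ≃* Multiplicative (ZMod 6)) := by
  obtain ⟨Γ₂, _, _, σ₂, h₂, ⟨k₂⟩⟩ := Classical.OddMult.exists_cover (F := K3) (m := 3)
    (Classical.OddMult.omCongr (Classical.coe_qfOdd 3)) le_rfl (by decide)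
  obtain ⟨Γ₃, _, _, σ₃, h₃, c₃⟩ := exists_three
  have c₂ : Nat.card σ₂.ker = 2 := by
    rw [Nat.card_congr k₂.toEquiv, Nat.card_eq_fintype_card, Fintype.card_multiplicative, ZMod.card]
  obtain ⟨Γ, _, _, σ, hσ, ⟨e⟩⟩ := exists_stem_prod σ₂ σ₃ h₂ h₃ c₂ c₃ (by norm_num)
  have : IsCyclic σ₃.ker := isCyclic_of_prime_card c₃
  let k₃ : σ₃.ker ≃* Multiplicative (ZMod 3) := mulEquivOfCyclicCardEq (by
    rw [c₃, Nat.card_eq_fintype_card, Fintype.card_multiplicative, ZMod.card])
  let c : Multiplicative (ZMod 6) ≃* Multiplicative (ZMod 2) × Multiplicative (ZMod 3) :=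
    (AddEquiv.toMultiplicative (ZMod.chineseRemainder (m := 2) (n := 3) (by norm_num)).toAddEquiv).trans
      (MulEquiv.prodMultiplicative (ZMod 2) (ZMod 3))
  exact ⟨Γ, inferInstance, inferInstance, σ, hσ, ⟨(e.trans (k₂.prodCongr k₃)).trans c.symm⟩⟩

/-- Stem kernels are images of the cyclic group of order six. -/
theorem exists_surjective {Δ : Type u} [Group Δ] [Finite Δ] (σ : Δ →* G73) (hσ : Cfsg.IsStemExtension σ) :
    ∃ π : Multiplicative (ZMod 6) →* σ.ker, Function.Surjective π := by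
  have : Finite G73 := Nat.finite_of_card_ne_zero (by rw [card_G73]; norm_num)
  obtain ⟨S, hS⟩ := sylow2
  obtain ⟨T, hT⟩ := sylow3
  obtain ⟨c, hc, hcn, hle⟩ := exists_gen_of_two S T (by rw [hS, hT]; norm_num) (fun q hq h2 h3 hd => by
    rw [card_G73, show 4585351680 = 2 ^ 9 * 3 ^ 9 * 5 * 7 * 13 by norm_num] at hd
    have key : ∀ r : ℕ, r.Prime → q ∣ r → q = r := fun r hr h => (Nat.prime_dvd_prime_iff_eq hq hr).1 h
    rcases (Nat.Prime.dvd_mul hq).1 hd with hd | h13
    · rcases (Nat.Prime.dvd_mul hq).1 hd with hd | h7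
      · rcases (Nat.Prime.dvd_mul hq).1 hd with hd | h5
        · rcases (Nat.Prime.dvd_mul hq).1 hd with hd | hd
          · exact absurd (key 2 Nat.prime_two (hq.dvd_of_dvd_pow hd)) h2
          · exact absurd (key 3 Nat.prime_three (hq.dvd_of_dvd_pow hd)) h3
        · obtain rfl := key 5 (by norm_num) h5
          exact sylow5
      · obtain rfl := key 7 (by norm_num) h7
        exact sylow7
    · obtain rfl := key 13 (by norm_num) h13
      exact sylow13) σ hσ
  rw [hS, hT] at hcn
  exact exists_surjective_zmod σ.ker c hc hcn hle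

/-- A field of three elements gives the same group. -/
theorem exists_iso (F : Type u) [Field F] [Fintype F] (hF : Fintype.card F = 3) :
    Nonempty (G73 ≃* POmega F (quadFormOdd 3 F)) := by
  classical
  let φ : K3 ≃+* F := FiniteField.ringEquivOfCardEq (by rw [hF]; rfl)
  obtain ⟨ε⟩ := Classical.IsometryTransport.isometry_iso φ (quadFormOdd 3 K3) (quadFormOdd 3 F) fun v => by
    simp [quadFormOdd, map_sum]
  obtain ⟨eΩ⟩ := Spor.SUCongr.commutator_equiv ε
  obtain ⟨e⟩ := Classical.OddMult.exists_equiv (F := F) (m := 3) le_rfl (by rw [hF]; decide)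
  exact ⟨eΩ.trans ((Classical.OddMult.omCongr (Classical.coe_qfOdd 3).symm).trans e)⟩

theorem multiplier {F : Type u} [Field F] [Fintype F] (hF : Fintype.card F = 3) :
    Cfsg.HasCyclicSchurMultiplier (POmega F (quadFormOdd 3 F)) 6 := by
  obtain ⟨e⟩ := exists_iso F hF
  refine ⟨?_, fun Δ _ _ σ hσ => ?_⟩
  · obtain ⟨Γ₀, _, _, σ₀, hst, ⟨k⟩⟩ := exists_six
    let U := ULift.{u} Γ₀
    let up : U ≃* Γ₀ := MulEquiv.ulift
    let q : U →* POmega F (quadFormOdd 3 F) := e.toMonoidHom.comp (σ₀.comp up.toMonoidHom)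
    have hker : q.ker = σ₀.ker.comap up.toMonoidHom := by
      ext x
      simp only [q, Subgroup.mem_comap, MonoidHom.mem_ker, MonoidHom.comp_apply, MulEquiv.coe_toMonoidHom,
        map_eq_one_iff e e.injective]
    refine ⟨U, inferInstance, inferInstance, q, ⟨e.surjective.comp (hst.1.comp up.surjective), ?_, ?_⟩, ?_⟩
    · intro x hx
      rw [hker] at hx
      refine Subgroup.mem_center_iff.2 fun y => up.injective ?_
      rw [map_mul, map_mul]
      exact Subgroup.mem_center_iff.1 (hst.2.1 hx) (up y)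
    · intro x hx
      rw [hker] at hx
      have : up x ∈ (commutator U).map up.toMonoidHom := by
        rw [commutator_def, Subgroup.map_commutator, Subgroup.map_top_of_surjective up.toMonoidHom up.surjective,
          ← commutator_def]
        exact hst.2.2 hx
      obtain ⟨y, hy, hyx⟩ := this
      rwa [← up.injective hyx]
    · let eq : σ₀.ker.comap up.toMonoidHom ≃* σ₀.ker :=
        { toFun := fun x => ⟨up x.1, x.2⟩
          invFun := fun y => ⟨up.symm y.1, by
            rw [Subgroup.mem_comap]; show up (up.symm y.1) ∈ σ₀.ker; rw [up.apply_symm_apply]; exact y.2⟩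
          left_inv := fun x => Subtype.ext (up.symm_apply_apply _)
          right_inv := fun y => Subtype.ext (up.apply_symm_apply _)
          map_mul' := fun x y => Subtype.ext (map_mul up x.1 y.1) }
      exact ⟨((MulEquiv.subgroupCongr hker).trans eq).trans k⟩
  · have hker : (e.symm.toMonoidHom.comp σ).ker = σ.ker := MonoidHom.ker_mulEquiv_comp σ e.symm
    obtain ⟨π, hπ⟩ := exists_surjective (e.symm.toMonoidHom.comp σ)
      ⟨e.symm.surjective.comp hσ.1, hker.le.trans hσ.2.1, hker.le.trans hσ.2.2⟩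
    exact ⟨(MulEquiv.subgroupCongr hker).toMonoidHom.comp π, (MulEquiv.subgroupCongr hker).surjective.comp hπ⟩

end Cfsg.Agent.Spor.OSevenThree
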